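import Mathlib

/-! # Algebra for S9222: units among `p_j + 1` for the sequence `p_{j+1} = p_j (p_j + 1)`. -/

set_option autoImplicit false
universe u
open CategoryTheory AlgebraicGeometry

namespace Groth.Agent.H5.AI

/-- the sequence `p_0 = r`, `p_{j+1} = p_j (p_j + 1)`. -/
def pseq {R : Type*} [CommRing R] (r : R) : ℕ → R
  | 0 => r
  | j + 1 => pseq r j * (pseq r j + 1)

lemma pseq_map {R S : Type*} [CommRing R] [CommRing S] (φ : R →+* S) (r : R) (j : ℕ) :
    φ (pseq r j) = pseq (φ r) j := by
  induction j with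
  | zero => rfl
  | succ j ih => simp only [pseq, map_mul, map_add, map_one, ih]

lemma pseq_dvd {R : Type*} [CommRing R] (r : R) {i j : ℕ} (h : i < j) :
    (pseq r i + 1) ∣ pseq r j := by
  induction j with
  | zero => omega
  | succ j ih =>
    rcases Nat.lt_succ_iff_lt_or_eq.mp h with h' | h'
    · exact (ih h').mul_right _
    · subst h'
      exact Dvd.intro_left _ rfl

/-- in a ring with finitely many maximal ideals some `p_j + 1` is a unit. -/
theorem exists_isUnit_pseq {B : Type*} [CommRing B] [Finite (MaximalSpectrum B)] (r : B) :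
    ∃ j, IsUnit (pseq r j + 1) := by
  by_contra hcon
  push Not at hcon
  have hex : ∀ j, ∃ m : MaximalSpectrum B, pseq r j + 1 ∈ m.asIdeal := by
    intro j
    obtain ⟨m, hm, hmem⟩ := exists_max_ideal_of_mem_nonunits (mem_nonunits_iff.mpr (hcon j))
    exact ⟨⟨m, hm⟩, hmem⟩
  choose f hf using hex
  have hinj : Function.Injective f := by
    intro i j hij
    by_contra hne
    wlog hlt : i < j generalizing i j
    · exact this hij.symm (Ne.symm hne) (lt_of_le_of_ne (not_lt.mp hlt) (Ne.symm hne))
    have h1 : pseq r i + 1 ∈ (f j).asIdeal := hij ▸ hf i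
    have h2 : pseq r j ∈ (f j).asIdeal := by
      obtain ⟨c, hc⟩ := pseq_dvd r hlt
      rw [hc]
      exact Ideal.mul_mem_right _ _ h1
    have h3 : (1 : B) ∈ (f j).asIdeal := by
      have := Ideal.sub_mem _ (hf j) h2
      simpa using this
    exact (f j).isMaximal.ne_top ((Ideal.eq_top_iff_one _).mpr h3)
  exact not_injective_infinite_finite f hinj

/-- for `r` integral over a field, some `p_j + 1` is a unit. -/
theorem exists_isUnit_pseq_of_isIntegral {k A : Type*} [Field k] [CommRing A] [Algebra k A]
    (r : A) (hr : IsIntegral k r) : ∃ j, IsUnit (pseq r j + 1) := by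
  let B := Algebra.adjoin k {r}
  haveI : Module.Finite k B := Module.Finite.iff_fg.mpr hr.fg_adjoin_singleton
  haveI : IsArtinianRing B := IsArtinianRing.of_finite k B
  let r' : B := ⟨r, Algebra.subset_adjoin (Set.mem_singleton r)⟩
  obtain ⟨j, hj⟩ := exists_isUnit_pseq r'
  refine ⟨j, ?_⟩
  have := hj.map (B.val : B →+* A)
  rw [map_add, map_one, pseq_map] at this
  exact this

end Groth.Agent.H5.AI
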