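import Mathlib
import Groth.Agent.Lib.Helper5.AI.A

/-! # Quasi-compact opens of the spectrum of an integral algebra over a field are clopen. -/

set_option autoImplicit false
universe u
open CategoryTheory AlgebraicGeometry Polynomial

namespace Groth.Agent.H5.AI

lemma isClosed_basicOpen_of_isIntegral {k A : Type*} [Field k] [CommRing A] [Algebra k A]
    (f : A) (hf : IsIntegral k f) :
    IsClosed (PrimeSpectrum.basicOpen f : Set (PrimeSpectrum A)) := by
  obtain ⟨F, hFm, hF0⟩ := hf
  have hFne : F ≠ 0 := hFm.ne_zero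
  obtain ⟨G, hFG, hG⟩ := exists_eq_pow_rootMultiplicity_mul_and_not_dvd F hFne 0
  rw [C_0, sub_zero] at hFG hG
  set m := rootMultiplicity 0 F
  have hc : G.coeff 0 ≠ 0 := fun h => hG (X_dvd_iff.mpr h)
  have hGdec := divX_mul_X_add G
  have hF0' : aeval f F = 0 := hF0
  set gf : A := aeval f G with hgf
  have h1 : f ^ m * gf = 0 := by
    rw [hgf, ← hF0', hFG, map_mul, map_pow, aeval_X]
  have h2 : gf = aeval f (divX G) * f + algebraMap k A (G.coeff 0) := by
    rw [hgf]
    conv_lhs => rw [← hGdec]
    rw [map_add, map_mul, aeval_X, aeval_C]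
  have hu : IsUnit (algebraMap k A (G.coeff 0)) := (IsUnit.mk0 _ hc).map _
  have : (PrimeSpectrum.basicOpen f : Set (PrimeSpectrum A)) = PrimeSpectrum.zeroLocus {gf} := by
    ext p
    simp only [PrimeSpectrum.basicOpen_eq_zeroLocus_compl, Set.mem_compl_iff,
      PrimeSpectrum.mem_zeroLocus, Set.singleton_subset_iff, SetLike.mem_coe]
    constructor
    · intro hfp
      have : f ^ m * gf ∈ p.asIdeal := by rw [h1]; exact zero_mem _
      rcases p.isPrime.mem_or_mem this with h | h
      · exact absurd (p.isPrime.mem_of_pow_mem _ h) hfp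
      · exact h
    · intro hgp hfp
      have h3 : algebraMap k A (G.coeff 0) ∈ p.asIdeal := by
        have : algebraMap k A (G.coeff 0) = gf - aeval f (divX G) * f := by rw [h2]; ring
        rw [this]
        exact Ideal.sub_mem _ hgp (Ideal.mul_mem_left _ _ hfp)
      exact p.isPrime.ne_top (Ideal.eq_top_of_isUnit_mem _ h3 hu)
  rw [this]
  exact PrimeSpectrum.isClosed_zeroLocus _

/-- a quasi-compact open subset of the spectrum of an integral algebra over a field is `D(e)` for
an idempotent `e`. -/
lemma exists_idempotent_of_isCompact {k A : Type*} [Field k] [CommRing A] [Algebra k A]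
    [Algebra.IsIntegral k A] (s : Set (PrimeSpectrum A)) (hs : IsCompact s) (ho : IsOpen s) :
    ∃ e : A, IsIdempotentElem e ∧ s = PrimeSpectrum.basicOpen e := by
  rw [← PrimeSpectrum.isClopen_iff]
  refine ⟨?_, ho⟩
  obtain ⟨t, rfl⟩ := PrimeSpectrum.isCompact_isOpen_iff.mp ⟨hs, ho⟩
  have : (PrimeSpectrum.zeroLocus (t : Set A))ᶜ =
      ⋃ f ∈ t, (PrimeSpectrum.basicOpen f : Set (PrimeSpectrum A)) := by
    ext p
    simp only [Set.mem_compl_iff, PrimeSpectrum.mem_zeroLocus, Set.mem_iUnion,
      PrimeSpectrum.basicOpen_eq_zeroLocus_compl, Set.singleton_subset_iff, SetLike.mem_coe,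
      Set.not_subset, exists_prop]
  rw [this]
  exact Set.Finite.isClosed_biUnion t.finite_toSet
    (fun f _ => isClosed_basicOpen_of_isIntegral (k := k) f (Algebra.IsIntegral.isIntegral f))

/-- restriction from global sections to a quasi-compact open of `Spec A` is surjective, for `A`
integral over a field. -/
lemma res_surjective_of_isCompact {k A : Type u} [Field k] [CommRing A] [Algebra k A]
    [Algebra.IsIntegral k A] (V : (Spec (CommRingCat.of A)).Opens)
    (hV : IsCompact (V : Set (Spec (CommRingCat.of A)))) :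
    Function.Surjective ((Spec (CommRingCat.of A)).presheaf.map (homOfLE (le_top : V ≤ ⊤)).op).hom := by
  obtain ⟨e, he, hVe⟩ := exists_idempotent_of_isCompact (k := k) (A := A)
    (show Set (PrimeSpectrum A) from (V : Set (Spec (CommRingCat.of A)))) hV V.2
  set e' : Γ(Spec (CommRingCat.of A), ⊤) := (Scheme.ΓSpecIso (CommRingCat.of A)).inv e with he'
  have he'i : IsIdempotentElem e' := he.map (Scheme.ΓSpecIso (CommRingCat.of A)).inv.hom
  have hVb : V = (Spec (CommRingCat.of A)).basicOpen e' := by
    rw [he', basicOpen_eq_of_affine]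
    ext1
    exact hVe
  subst hVb
  haveI := (isAffineOpen_top (Spec (CommRingCat.of A))).isLocalization_basicOpen e'
  exact IsLocalization.Away.algebraMap_surjective_of_isIdempotentElem e' he'i

/-- the key consequence: for every section `c` on a quasi-compact open of `Spec A`, some
`p_j(c) + 1` is a unit. -/
theorem exists_isUnit_pseq_section {k A : Type u} [Field k] [CommRing A] [Algebra k A]
    [Algebra.IsIntegral k A] (V : (Spec (CommRingCat.of A)).Opens)
    (hV : IsCompact (V : Set (Spec (CommRingCat.of A)))) (c : Γ(Spec (CommRingCat.of A), V)) :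
    ∃ j, IsUnit (pseq c j + 1) := by
  obtain ⟨γ, rfl⟩ := res_surjective_of_isCompact (k := k) V hV c
  obtain ⟨r, rfl⟩ : ∃ r : A, (Scheme.ΓSpecIso (CommRingCat.of A)).inv.hom r = γ :=
    ⟨(Scheme.ΓSpecIso (CommRingCat.of A)).hom.hom γ, by
      change ((Scheme.ΓSpecIso (CommRingCat.of A)).hom ≫ (Scheme.ΓSpecIso (CommRingCat.of A)).inv) γ = γ
      rw [Iso.hom_inv_id]; rfl⟩
  obtain ⟨j, hj⟩ := exists_isUnit_pseq_of_isIntegral (k := k) r (Algebra.IsIntegral.isIntegral r)
  refine ⟨j, ?_⟩
  have h1 := hj.map ((Scheme.ΓSpecIso (CommRingCat.of A)).inv.hom)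
  have h2 := h1.map ((Spec (CommRingCat.of A)).presheaf.map (homOfLE (le_top : V ≤ ⊤)).op).hom
  rw [map_add, map_one, pseq_map, map_add, map_one, pseq_map] at h2
  exact h2

end Groth.Agent.H5.AI
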