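import Mathlib
import Groth.Agent.Lib.Helper5.AI.B
import Groth.Agent.Lib.Lead.QC.AmpleFinite2

/-! # Merging two sections of a power of an invertible module (for S9222). -/

set_option autoImplicit false
universe u
open CategoryTheory Limits AlgebraicGeometry TopologicalSpace Opposite

namespace Groth.Agent.H5.AI

open Groth.Agent.LD.QC

variable {X : Scheme.{u}} (L : X.Modules) [L.IsQuasicoherent]

/-- merge data: an exponent and two sections of that power. -/
structure MData where
  E : ℕ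
  π : unitMod X ⟶ CohB1.tensorPow L E
  α : unitMod X ⟶ CohB1.tensorPow L E

/-- the next merge datum. -/
noncomputable def MData.next (d : MData L) : MData L :=
  ⟨d.E + d.E, mulSec L d.π (d.π + d.α), mulSec L d.α d.α⟩

/-- the merge sequence. -/
noncomputable def mseq {N : ℕ} (a b : unitMod X ⟶ CohB1.tensorPow L N) : ℕ → MData L
  | 0 => ⟨N, b, a⟩
  | j + 1 => (mseq a b j).next

variable {L}

/-- `SecTwist.val` typed as a section. -/
noncomputable abbrev valΓ {M : X.Modules} (s : unitMod X ⟶ M) (U : X.Opens) : Γ(M, U) :=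
  SecTwist.val s U

lemma val_mulSec_smul {a b : ℕ} (σ σ₀ : unitMod X ⟶ CohB1.tensorPow L a)
    (τ τ₀ : unitMod X ⟶ CohB1.tensorPow L b) (U : X.Opens) (f g : Γ(X, U))
    (hσ : valΓ σ U = f • valΓ σ₀ U)
    (hτ : valΓ τ U = g • valΓ τ₀ U) :
    valΓ (mulSec L σ τ) U = (f * g) • valΓ (mulSec L σ₀ τ₀) U := by
  change SecTwist.val (mulSec L σ τ) U = (f * g) • valΓ (mulSec L σ₀ τ₀) U
  have h2 : valΓ (mulSec L σ₀ τ₀) U = (powAddIso L a b).hom.app U
      (SecTwist.tmul _ _ U (valΓ σ₀ U) (valΓ τ₀ U)) := val_mulSec L σ₀ τ₀ U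
  rw [val_mulSec, h2]
  have h3 : SecTwist.tmul (CohB1.tensorPow L a) (CohB1.tensorPow L b) U (SecTwist.val σ U)
      (SecTwist.val τ U) = (f * g) • SecTwist.tmul _ _ U (valΓ σ₀ U) (valΓ τ₀ U) := by
    change SecTwist.tmul (CohB1.tensorPow L a) (CohB1.tensorPow L b) U (valΓ σ U)
      (valΓ τ U) = _
    rw [hσ, hτ, tmul_smul_left, tmul_smul_right, smul_smul]
  rw [h3]
  exact Scheme.Modules.Hom.app_smul _ _ _

variable (hL : PicF.IsInvertible L) {N : ℕ} (a b : unitMod X ⟶ CohB1.tensorPow L N)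

include hL

lemma mseq_E_le (j : ℕ) : N ≤ (mseq L a b j).E := by
  induction j with
  | zero => exact le_rfl
  | succ j ih => exact ih.trans (Nat.le_add_left _ _)

lemma genLocus_mseq_α (j : ℕ) :
    CohB1.genLocus _ (mseq L a b j).α = CohB1.genLocus _ a := by
  induction j with
  | zero => rfl
  | succ j ih =>
    change CohB1.genLocus _ (mulSec L (mseq L a b j).α (mseq L a b j).α) = _
    rw [genLocus_mulSec hL, ih, inf_idem]

lemma genLocus_mseq_π_succ (j : ℕ) :
    CohB1.genLocus _ (mseq L a b (j + 1)).π =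
      CohB1.genLocus _ (mseq L a b j).π ⊓
        CohB1.genLocus _ ((mseq L a b j).π + (mseq L a b j).α) := by
  change CohB1.genLocus _ (mulSec L (mseq L a b j).π ((mseq L a b j).π + (mseq L a b j).α)) = _
  rw [genLocus_mulSec hL]

lemma genLocus_mseq_π_le (j : ℕ) :
    CohB1.genLocus _ (mseq L a b j).π ≤ CohB1.genLocus _ b := by
  induction j with
  | zero => exact le_rfl
  | succ j ih =>
    rw [genLocus_mseq_π_succ hL]
    exact inf_le_left.trans ih

lemma mem_genLocus_mseq_π (y : X) (hb : y ∈ CohB1.genLocus _ b) (ha : y ∉ CohB1.genLocus _ a)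
    (j : ℕ) : y ∈ CohB1.genLocus _ (mseq L a b j).π := by
  induction j with
  | zero => exact hb
  | succ j ih =>
    rw [genLocus_mseq_π_succ hL]
    refine ⟨ih, ?_⟩
    apply mem_genLocus_add _ (isInvertible_tensorPow hL _) _ _ y ih
    rw [genLocus_mseq_α hL]
    exact ha

lemma mem_genLocus_mseq_σ (y : X) (hb : y ∈ CohB1.genLocus _ b) (ha : y ∉ CohB1.genLocus _ a)
    (j : ℕ) : y ∈ CohB1.genLocus _ ((mseq L a b j).π + (mseq L a b j).α) := by
  apply mem_genLocus_add _ (isInvertible_tensorPow hL _) _ _ y (mem_genLocus_mseq_π hL a b y hb ha j)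
  rw [genLocus_mseq_α hL]
  exact ha

lemma genLocus_mseq_σ_le (j : ℕ) :
    CohB1.genLocus _ ((mseq L a b j).π + (mseq L a b j).α) ≤
      CohB1.genLocus _ a ⊔ CohB1.genLocus _ b := by
  refine (genLocus_add_le _ (isInvertible_tensorPow hL _) _ _).trans (sup_le ?_ ?_)
  · exact (genLocus_mseq_π_le hL a b j).trans le_sup_right
  · rw [genLocus_mseq_α hL]; exact le_sup_left

lemma isAffineOpen_genLocus_mseq (haff : IsAffineOpen (CohB1.genLocus _ a))
    (hbff : IsAffineOpen (CohB1.genLocus _ b)) (j : ℕ) :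
    IsAffineOpen (CohB1.genLocus _ (mseq L a b j).π) ∧
      IsAffineOpen (CohB1.genLocus _ ((mseq L a b j).π + (mseq L a b j).α)) := by
  induction j with
  | zero =>
    refine ⟨hbff, ?_⟩
    exact isAffineOpen_genLocus_add _ (isInvertible_tensorPow hL _) _ _ hbff haff
  | succ j ih =>
    have h1 : IsAffineOpen (CohB1.genLocus _ (mseq L a b (j + 1)).π) := by
      rw [genLocus_mseq_π_succ hL, inf_comm]
      exact isAffineOpen_genLocus_inf _ (isInvertible_tensorPow hL _) _ ih.1
    refine ⟨h1, ?_⟩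
    apply isAffineOpen_genLocus_add _ (isInvertible_tensorPow hL _) _ _ h1
    rw [genLocus_mseq_α hL]
    exact haff

/-- the coordinates of the merge sequence on `X_a`. -/
lemma val_mseq (ρ : Γ(X, CohB1.genLocus _ a))
    (hρ : valΓ b (CohB1.genLocus _ a) = ρ • valΓ a (CohB1.genLocus _ a)) (j : ℕ) :
    valΓ (mseq L a b j).π (CohB1.genLocus _ a) =
      pseq ρ j • valΓ (mseq L a b j).α (CohB1.genLocus _ a) := by
  induction j with
  | zero => exact hρ
  | succ j ih =>
    change valΓ (mulSec L (mseq L a b j).π ((mseq L a b j).π + (mseq L a b j).α)) _ =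
      (pseq ρ j * (pseq ρ j + 1)) •
        valΓ (mulSec L (mseq L a b j).α (mseq L a b j).α) _
    apply val_mulSec_smul _ _ _ _ _ _ _ ih
    change valΓ (mseq L a b j).π _ + valΓ (mseq L a b j).α _ = _
    rw [ih, add_smul, one_smul]

lemma genLocus_mseq_σ_inf (ρ : Γ(X, CohB1.genLocus _ a))
    (hρ : valΓ b (CohB1.genLocus _ a) = ρ • valΓ a (CohB1.genLocus _ a)) (j : ℕ) :
    CohB1.genLocus _ ((mseq L a b j).π + (mseq L a b j).α) ⊓ CohB1.genLocus _ a =
      X.basicOpen (pseq ρ j + 1) := by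
  have he : IsBasisOver _ (CohB1.genLocus _ a)
      (SecTwist.val (mseq L a b j).α (CohB1.genLocus _ a)) :=
    isBasisOver_val_of_le _ (genLocus_mseq_α hL a b j).ge
  apply genLocus_inf_eq_basicOpen _ he
  change valΓ (mseq L a b j).π _ + valΓ (mseq L a b j).α _ = _
  rw [val_mseq hL a b ρ hρ j, add_smul, one_smul]

end Groth.Agent.H5.AI
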