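import Mathlib
import Groth.Agent.Lib.Helper5.AI.C

/-! # S9222: a morphism from the spectrum of an integral algebra over a field into a scheme with an
ample module factors through an affine `X_s`. -/

set_option autoImplicit false
universe u
open CategoryTheory Limits AlgebraicGeometry TopologicalSpace Opposite

namespace Groth.Agent.H5.AI

open Groth.Agent.LD.QC

variable {X : Scheme.{u}} {L : X.Modules}

/-- the merge lemma. -/
theorem exists_merge [L.IsQuasicoherent] (hL : PicF.IsInvertible L) [X.IsSeparated]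
    (k A : Type u) [Field k] [CommRing A] [Algebra k A] [Algebra.IsIntegral k A]
    (g : Spec (CommRingCat.of A) ⟶ X) {N : ℕ} (hN : 0 < N)
    (a b : unitMod X ⟶ CohB1.tensorPow L N)
    (haff : IsAffineOpen (CohB1.genLocus _ a)) (hbff : IsAffineOpen (CohB1.genLocus _ b)) :
    ∃ (n : ℕ) (s : unitMod X ⟶ CohB1.tensorPow L (n + 1)),
      IsAffineOpen (CohB1.genLocus _ s) ∧
      CohB1.genLocus _ s ≤ CohB1.genLocus _ a ⊔ CohB1.genLocus _ b ∧
      ∀ z : Spec (CommRingCat.of A), g z ∈ CohB1.genLocus _ a ⊔ CohB1.genLocus _ b →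
        g z ∈ CohB1.genLocus _ s := by
  set U := CohB1.genLocus _ a with hU
  have he : IsBasisOver _ U (valΓ a U) := isBasisOver_val_of_le a le_rfl
  obtain ⟨ρ, hρ⟩ := he.exists_coord (valΓ b U)
  haveI : IsAffineHom g := IsAffineHom.of_comp g (terminal.from X)
  have hVc : IsCompact ((g ⁻¹ᵁ U : (Spec (CommRingCat.of A)).Opens) :
      Set (Spec (CommRingCat.of A))) := (haff.preimage g).isCompact
  obtain ⟨j, hj⟩ := exists_isUnit_pseq_section (k := k) (g ⁻¹ᵁ U) hVc ((g.app U).hom ρ)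
  have hj' : IsUnit ((g.app U).hom (pseq ρ j + 1)) := by
    rw [map_add, map_one, pseq_map]; exact hj
  set d := mseq L a b j with hd
  have hEpos : d.E = d.E - 1 + 1 := by
    have h5 : N ≤ d.E := mseq_E_le hL a b j
    generalize d.E = e at h5 ⊢
    omega
  refine ⟨d.E - 1, castSec L hEpos (d.π + d.α), ?_, ?_, ?_⟩
  · rw [genLocus_castSec]
    exact (isAffineOpen_genLocus_mseq hL a b haff hbff j).2
  · rw [genLocus_castSec]
    exact genLocus_mseq_σ_le hL a b j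
  · intro z hz
    rw [genLocus_castSec]
    by_cases hza : g z ∈ U
    · have h1 := genLocus_mseq_σ_inf hL a b ρ hρ j
      have h2 : g z ∈ X.basicOpen (pseq ρ j + 1) := by
        have h3 : z ∈ g ⁻¹ᵁ X.basicOpen (pseq ρ j + 1) := by
          rw [Scheme.preimage_basicOpen, Scheme.basicOpen_of_isUnit _ hj']
          exact hza
        exact h3
      rw [← h1] at h2
      exact h2.1
    · have hzb : g z ∈ CohB1.genLocus _ b := by
        rcases hz with h | h
        · exact absurd h hza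
        · exact h
      exact mem_genLocus_mseq_σ hL a b (g z) hzb hza j

/-- bringing two sections to a common power. -/
theorem exists_merge' [L.IsQuasicoherent] (hL : PicF.IsInvertible L) [X.IsSeparated]
    (k A : Type u) [Field k] [CommRing A] [Algebra k A] [Algebra.IsIntegral k A]
    (g : Spec (CommRingCat.of A) ⟶ X) {n₁ n₂ : ℕ}
    (s₁ : unitMod X ⟶ CohB1.tensorPow L (n₁ + 1)) (s₂ : unitMod X ⟶ CohB1.tensorPow L (n₂ + 1))
    (haff : IsAffineOpen (CohB1.genLocus _ s₁)) (hbff : IsAffineOpen (CohB1.genLocus _ s₂)) :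
    ∃ (n : ℕ) (s : unitMod X ⟶ CohB1.tensorPow L (n + 1)),
      IsAffineOpen (CohB1.genLocus _ s) ∧
      CohB1.genLocus _ s ≤ CohB1.genLocus _ s₁ ⊔ CohB1.genLocus _ s₂ ∧
      ∀ z : Spec (CommRingCat.of A), g z ∈ CohB1.genLocus _ s₁ ⊔ CohB1.genLocus _ s₂ →
        g z ∈ CohB1.genLocus _ s := by
  have hpos : 0 < (n₁ + 1) * (n₂ + 1) := by positivity
  have hidx1 : powIdx (n₁ + 1) (n₂ + 1) = (n₁ + 1) * (n₂ + 1) := powIdx_eq _ _
  have hidx2 : powIdx (n₂ + 1) (n₁ + 1) = (n₁ + 1) * (n₂ + 1) := by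
    rw [powIdx_eq, mul_comm]
  let t₁ : unitMod X ⟶ CohB1.tensorPow L ((n₁ + 1) * (n₂ + 1)) :=
    castSec L hidx1 (secMulPow L s₁ (n₂ + 1))
  let t₂ : unitMod X ⟶ CohB1.tensorPow L ((n₁ + 1) * (n₂ + 1)) :=
    castSec L hidx2 (secMulPow L s₂ (n₁ + 1))
  have g1 : CohB1.genLocus _ t₁ = CohB1.genLocus _ s₁ :=
    (genLocus_castSec L hidx1 _).trans (genLocus_secMulPow hL s₁ n₂)
  have g2 : CohB1.genLocus _ t₂ = CohB1.genLocus _ s₂ :=
    (genLocus_castSec L hidx2 _).trans (genLocus_secMulPow hL s₂ n₁)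
  obtain ⟨n, s, h1, h2, h3⟩ := exists_merge hL k A g hpos t₁ t₂ (g1 ▸ haff) (g2 ▸ hbff)
  rw [g1, g2] at h2 h3
  exact ⟨n, s, h1, h2, h3⟩

/-- merging a finite list of sections. -/
theorem exists_merge_list [L.IsQuasicoherent] (hL : PicF.IsInvertible L) [X.IsSeparated]
    (k A : Type u) [Field k] [CommRing A] [Algebra k A] [Algebra.IsIntegral k A]
    (g : Spec (CommRingCat.of A) ⟶ X) (W : X.Opens)
    (l : List (Σ n : ℕ, unitMod X ⟶ CohB1.tensorPow L (n + 1)))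
    (hl : ∀ q ∈ l, IsAffineOpen (CohB1.genLocus _ q.2) ∧ CohB1.genLocus _ q.2 ≤ W) :
    ∃ (n : ℕ) (s : unitMod X ⟶ CohB1.tensorPow L (n + 1)),
      IsAffineOpen (CohB1.genLocus _ s) ∧ CohB1.genLocus _ s ≤ W ∧
      ∀ z : Spec (CommRingCat.of A), (∃ q ∈ l, g z ∈ CohB1.genLocus _ q.2) →
        g z ∈ CohB1.genLocus _ s := by
  induction l with
  | nil =>
    have h0 := genLocus_zero (CohB1.tensorPow L (0 + 1)) (isInvertible_tensorPow hL 1)
    refine ⟨0, 0, ?_, ?_, ?_⟩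
    · rw [h0]; exact isAffineOpen_bot X
    · rw [h0]; exact bot_le
    · rintro z ⟨q, hq, -⟩
      simp at hq
  | cons q l ih =>
    obtain ⟨n₁, s₁, h1, h2, h3⟩ := ih (fun q' hq' => hl q' (List.mem_cons_of_mem _ hq'))
    obtain ⟨hq1, hq2⟩ := hl q List.mem_cons_self
    obtain ⟨n, s, k1, k2, k3⟩ := exists_merge' hL k A g s₁ q.2 h1 hq1
    refine ⟨n, s, k1, k2.trans (sup_le h2 hq2), ?_⟩
    rintro z ⟨q', hq', hz⟩
    apply k3
    rcases List.mem_cons.mp hq' with rfl | hq''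
    · exact Or.inr hz
    · exact Or.inl (h3 z ⟨q', hq'', hz⟩)

/-- **S9222**. -/
theorem exists_affine_genLocus_of_integral (hL : CohB1.IsAmple L)
    (k A : Type u) [Field k] [CommRing A] [Algebra k A] [Algebra.IsIntegral k A]
    (W : X.Opens) (g : Spec (CommRingCat.of A) ⟶ X) (hg : Set.range g.base ⊆ (W : Set X)) :
    ∃ (n : ℕ) (s : Coh.structureModule X ⟶ CohB1.tensorPow L (n + 1)),
      IsAffineOpen (CohB1.genLocus _ s) ∧ CohB1.genLocus _ s ≤ W ∧
        Set.range g.base ⊆ (CohB1.genLocus _ s : Set X) := by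
  classical
  haveI : L.IsQuasicoherent := qc_of_isInvertible L hL.1
  haveI : CompactSpace X := hL.2.1
  haveI : X.IsSeparated := isSeparated_of_affine_genLocus L hL.1 hL.2.2
  have hcov : ∀ z : Spec (CommRingCat.of A), ∃ (n : ℕ) (s : unitMod X ⟶ CohB1.tensorPow L (n + 1)),
      g z ∈ CohB1.genLocus _ s ∧ CohB1.genLocus _ s ≤ W ∧ IsAffineOpen (CohB1.genLocus _ s) :=
    fun z => exists_affine_genLocus_le L hL (g z) W (hg ⟨z, rfl⟩)
  choose n s hs1 hs2 hs3 using hcov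
  obtain ⟨t, ht⟩ := isCompact_univ.elim_finite_subcover
    (fun z : Spec (CommRingCat.of A) => ((g ⁻¹ᵁ CohB1.genLocus _ (s z) :
      (Spec (CommRingCat.of A)).Opens) : Set (Spec (CommRingCat.of A))))
    (fun z => (g ⁻¹ᵁ CohB1.genLocus _ (s z)).2)
    (fun z _ => Set.mem_iUnion.mpr ⟨z, hs1 z⟩)
  let l : List (Σ n : ℕ, unitMod X ⟶ CohB1.tensorPow L (n + 1)) :=
    t.toList.map (fun z => ⟨n z, s z⟩)
  obtain ⟨m, σ, h1, h2, h3⟩ := exists_merge_list hL.1 k A g W l (by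
    intro q hq
    obtain ⟨z, -, rfl⟩ := List.mem_map.mp hq
    exact ⟨hs3 z, hs2 z⟩)
  refine ⟨m, σ, h1, h2, ?_⟩
  rintro _ ⟨z, rfl⟩
  obtain ⟨w, hw, hzw⟩ := Set.mem_iUnion₂.mp (ht (Set.mem_univ z))
  exact h3 z ⟨⟨n w, s w⟩, List.mem_map.mpr ⟨w, Finset.mem_toList.mpr hw, rfl⟩, hzw⟩

end Groth.Agent.H5.AI
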